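import Groth.Agent.L09.Artin.Banded.Points
import Groth.Agent.L09.Artin.Atlas.Main
import Groth.Agent.L09.Artin.Apps.LocQ
import Groth.Agent.L09.Artin.Apps.SpQuot
import Groth.Agent.L24.Alg.SpaceBaseLocal
import Groth.Agent.L24.St.QcSep
import Groth.Agent.L24.St.DiagRep

/-!
# Banded gerbes under flat group schemes of finite presentation are algebraic
-/

set_option autoImplicit false
set_option backward.isDefEq.respectTransparency false
set_option backward.isDefEq.respectTransparency.types false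

universe u

open CategoryTheory CategoryTheory.Limits MonoidalCategory CartesianMonoidalCategory AlgebraicGeometry Opposite AlgSp

noncomputable section

namespace Groth.L09.Artin.Banded

open Groth.L24.St
open Groth.L09.Artin.Res (FLP)
open Groth.L09.Artin.Cand (Pt K)

variable {S : Scheme.{u}} {𝒳 : AlgSt.Cat S}

section Pairs

variable {U R : Over S}

/-- The product of two schemes over `S` as a fibre product over `(Sch/S)`. -/
def pairFun (R U : Over S) {𝒴 : AlgSt.Cat S} (x₁ : FibCat.overCat R ⥤ᵇ 𝒴) (x₂ : FibCat.overCat U ⥤ᵇ 𝒴) :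
    AlgSt.ofSp ((yon S).obj (R ⊗ U)) ⥤ᵇ
      FibCat.fp (BasedFunctor.comp x₁ (FibCat.toSelf 𝒴)) (BasedFunctor.comp x₂ (FibCat.toSelf 𝒴)) :=
  let a := BasedFunctor.comp (AlgSt.toOverCat (R ⊗ U)) (AlgSt.overMap (fst R U))
  let b := BasedFunctor.comp (AlgSt.toOverCat (R ⊗ U)) (AlgSt.overMap (snd R U))
  FibCat.fpLift a b (toSelfIso (BasedFunctor.comp a x₁) ≪≫ (toSelfIso (BasedFunctor.comp b x₂)).symm)

theorem pairFun_isEquivOver (R U : Over S) {𝒴 : AlgSt.Cat S} (x₁ : FibCat.overCat R ⥤ᵇ 𝒴)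
    (x₂ : FibCat.overCat U ⥤ᵇ 𝒴) : FibCat.IsEquivOver (pairFun R U x₁ x₂) := by
  have : (pairFun R U x₁ x₂).toFunctor.Faithful := ⟨fun {z z' k l} h =>
    Stk.EltObj.hom_ext (congrArg (fun t : (pairFun R U x₁ x₂).obj z ⟶ (pairFun R U x₁ x₂).obj z' => t.hom.fst.left) h)⟩
  have : (pairFun R U x₁ x₂).toFunctor.Full := ⟨fun {z z'} m => by
    let k : z.base ⟶ z'.base := m.hom.fst.left
    have h1 : k ≫ z'.sec.down ≫ fst R U = z.sec.down ≫ fst R U := Over.w m.hom.fst
    have hs : m.hom.snd.left = k := by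
      have h : (FibCat.overCat U).p.IsHomLift m.hom.fst.left m.hom.snd :=
        FibCat.fp_isHomLift_snd (BasedFunctor.comp x₁ (FibCat.toSelf 𝒴)) (BasedFunctor.comp x₂ (FibCat.toSelf 𝒴)) m
      refine (IsHomLift.fac' (FibCat.overCat U).p m.hom.fst.left m.hom.snd).trans ?_
      show eqToHom _ ≫ k ≫ eqToHom _ = k
      simp
    have h2 : k ≫ z'.sec.down ≫ snd R U = z.sec.down ≫ snd R U := hs ▸ Over.w m.hom.snd
    have hk : k ≫ z'.sec.down = z.sec.down :=
      CartesianMonoidalCategory.hom_ext _ _ (by rw [Category.assoc]; exact h1) (by rw [Category.assoc]; exact h2)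
    exact ⟨⟨k, congrArg ULift.up hk⟩, fp_ext (Over.OverMorphism.ext rfl) (Over.OverMorphism.ext hs.symm)⟩⟩
  refine isEquivOver_of_overId _ fun w => ?_
  have e : w.obj.snd.left = w.obj.fst.left :=
    (FibCat.fpSnd (BasedFunctor.comp x₁ (FibCat.toSelf 𝒴)) (BasedFunctor.comp x₂ (FibCat.toSelf 𝒴))).w_obj w
  let z : (AlgSt.ofSp ((yon S).obj (R ⊗ U))).obj :=
    ⟨w.obj.fst.left, ⟨lift w.obj.fst.hom (eqToHom e.symm ≫ w.obj.snd.hom)⟩⟩
  let i₁ : ((pairFun R U x₁ x₂).obj z).obj.fst ≅ w.obj.fst := Over.isoMk (Iso.refl _) (by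
    show 𝟙 _ ≫ w.obj.fst.hom = lift _ _ ≫ fst R U
    rw [lift_fst, Category.id_comp])
  let i₂ : ((pairFun R U x₁ x₂).obj z).obj.snd ≅ w.obj.snd := Over.isoMk (eqToIso e.symm) (by
    show eqToHom e.symm ≫ w.obj.snd.hom = lift _ _ ≫ snd R U
    rw [lift_snd])
  refine ⟨z, fpIsoMk i₁ i₂ ?_, overId_fp _ ?_⟩
  · obtain ⟨he', hw'⟩ := (fp_overId ((pairFun R U x₁ x₂).obj z)).eq
    change ((pairFun R U x₁ x₂).obj z).obj.iso.hom = eqToHom he' at hw'
    show 𝒴.p.map (x₁.map i₁.hom) ≫ w.obj.iso.hom =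
      ((pairFun R U x₁ x₂).obj z).obj.iso.hom ≫ 𝒴.p.map (x₂.map i₂.hom)
    rw [hw']
    obtain ⟨he, hw⟩ := (fp_overId w).eq
    have h1 := Functor.congr_hom x₁.w i₁.hom
    have h2 := Functor.congr_hom x₂.w i₂.hom
    simp only [Functor.comp_map] at h1 h2
    change w.obj.iso.hom = eqToHom he at hw
    rw [h1, h2, hw]
    simp only [Category.assoc, eqToHom_trans, eqToHom_trans_assoc]
    show eqToHom _ ≫ 𝟙 _ ≫ eqToHom _ = eqToHom _ ≫ eqToHom e.symm ≫ eqToHom _
    simp
  · exact overId_of_lift (R := w.obj.fst.left) (IsHomLift.of_fac' _ _ _ rfl rfl (by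
      show i₁.hom.left = eqToHom rfl ≫ 𝟙 _ ≫ eqToHom rfl
      simp [i₁]))

end Pairs

variable {A : Over S} [GrpObj A] (β : Gerb.Banding 𝒳 (yonedaGrpObj A))
  (hst : Stk.IsStack (J S) 𝒳) (hG : Gerb.LocSurjHom (QuotSh.J Scheme.fppfPrecoverage S) (FibCat.toSelf 𝒳))

section Rep

variable {P : MorphismProperty (Sp S)} (hPB : PBase P) (hPL : IsLocalOnBase AlgSp.IsFppfCover P)
  (hP : P ((yon S).map (toUnit A))) {U : Over S} (f : FibCat.overCat U ⥤ᵇ 𝒳)

include β hst hG hPB hPL hP in
/-- Every chart is representable, with the property inherited from the band and the second factor. -/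
theorem repWith_chart (hPC : PComp P) (hU : ∀ R : Over S, P ((yon S).map (fst R U))) :
    AlgSt.RepByAlgSpWith P f := fun R y => by
  have hR : 𝒳.p.obj (y.obj (Over.mk (𝟙 R))) = R := y.w_obj _
  have : 𝒳.p.IsHomLift (𝟙 R) (𝟙 (y.obj (Over.mk (𝟙 R)))) := IsHomLift.id hR
  obtain ⟨hK, hq⟩ := isAlgSpace_and_prop (f := f) β hst hR hG hPB hPL hP
  refine ⟨⟨KS f hst hR, hK⟩, Cand.ptFun hst.1 y (𝟙 _), Cand.ptFun_isEquivOver hst.1 y (𝟙 _), ?_⟩
  have e : AlgSt.spMapOfOver (BasedFunctor.comp (Cand.ptFun hst.1 y (f := f) (𝟙 _)) (FibCat.fpFst y f)) =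
      qK hst hR ≫ (yon S).map (fst R U) :=
    Groth.L23.hom_ext_yon fun T l => by
      refine (J S).uliftYonedaEquiv.injective ?_
      rw [GrothendieckTopology.uliftYonedaEquiv_comp, ← Category.assoc, comp_qK, ← Functor.map_comp,
        GrothendieckTopology.uliftYonedaEquiv_uliftYoneda_map, lift_fst]
      refine ULift.ext _ _ ?_
      show eqToHom _ ≫ (pts hst hR l).x = (pts hst hR l).x
      simp
  show P (AlgSt.spMapOfOver _)
  rw [e]
  exact hPC hK (IsAlgSpace.yon_obj _) (IsAlgSpace.yon_obj _) _ _ hq (hU R)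

include β hst hG hPB hPL hP in
/-- The comparison of the fibre products over the stack and over the base has the property of the band. -/
theorem repWith_fpPost {R : Over S} (y : FibCat.overCat R ⥤ᵇ 𝒳) :
    AlgSt.RepByAlgSpWith P (fpPost y f (FibCat.toSelf 𝒳)) := by
  have hR : 𝒳.p.obj (y.obj (Over.mk (𝟙 R))) = R := y.w_obj _
  have : 𝒳.p.IsHomLift (𝟙 R) (𝟙 (y.obj (Over.mk (𝟙 R)))) := IsHomLift.id hR
  obtain ⟨hK, hq⟩ := isAlgSpace_and_prop (f := f) β hst hR hG hPB hPL hP
  have ha := Cand.ptFun_isEquivOver hst.1 y (𝟙 _) (f := f)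
  refine (repWith_square ha (pairFun_isEquivOver R U y f)
    (f' := AlgSt.ofSpMap (qK (f := f) hst hR)) ?_).2
    (repWith_ofSpMap_of_prop hPB hK (IsAlgSpace.yon_obj _) _ hq)
  refine mkIso2 (fun z => fpIsoMk
      (Over.isoMk (Iso.refl _) (by
        show 𝟙 _ ≫ z.sec.down.x = lift z.sec.down.x z.sec.down.u ≫ fst R U
        rw [lift_fst, Category.id_comp]))
      (Over.isoMk (Iso.refl _) (by
        show 𝟙 _ ≫ z.sec.down.u = lift z.sec.down.x z.sec.down.u ≫ snd R U
        rw [lift_snd, Category.id_comp])) ?_)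
    (fun z z' k => fp_ext (Over.OverMorphism.ext ((Category.comp_id _).trans (Category.id_comp _).symm))
      (Over.OverMorphism.ext ((Category.comp_id _).trans (Category.id_comp _).symm)))
    (fun z => overId_fp _ ?_)
  · obtain ⟨he, hw⟩ := (fp_overId ((pairFun R U y f).obj ((AlgSt.ofSpMap (qK (f := f) hst hR)).obj z))).eq
    change ((pairFun R U y f).obj ((AlgSt.ofSpMap (qK (f := f) hst hR)).obj z)).obj.iso.hom = eqToHom he at hw
    show 𝒳.p.map (y.map _) ≫ 𝒳.p.map (Cand.ptIso hst.1 y (𝟙 _) z.sec.down).hom =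
      ((pairFun R U y f).obj ((AlgSt.ofSpMap (qK (f := f) hst hR)).obj z)).obj.iso.hom ≫ 𝒳.p.map (f.map _)
    rw [hw]
    have h1 := fun (a b : Over R) (m : a ⟶ b) => Functor.congr_hom y.w m
    have h2 := fun (a b : Over U) (m : a ⟶ b) => Functor.congr_hom f.w m
    simp only [Functor.comp_map] at h1 h2
    rw [h1, h2, IsHomLift.fac' 𝒳.p (𝟙 z.base) (Cand.ptIso hst.1 y (𝟙 _) z.sec.down).hom]
    simp only [Category.assoc, Category.id_comp, eqToHom_trans, eqToHom_trans_assoc]
    show eqToHom _ ≫ 𝟙 _ ≫ eqToHom _ = eqToHom _ ≫ 𝟙 _ ≫ eqToHom _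
    simp
  · exact overId_of_lift (R := z.base) (IsHomLift.of_fac' _ _ _ rfl rfl (by
      show 𝟙 _ = eqToHom rfl ≫ 𝟙 _ ≫ eqToHom rfl
      simp))

include β hst hG hPB hPL hP in
/-- The diagonal has the properties of the band. -/
theorem repWith_diag : AlgSt.RepByAlgSpWith P (FibCat.diag (FibCat.toSelf 𝒳)) := fun U y => by
  let t := FibCat.toSelf 𝒳
  let x₁ := BasedFunctor.comp y (FibCat.fpFst t t)
  let x₂ := BasedFunctor.comp y (FibCat.fpSnd t t)
  have h1 : AlgSt.RepByAlgSpWith P (FibCat.fpFst (cmpMap x₁ x₂ t) (FibCat.diag t)) := by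
    have h2 := repWith_fpPost β hst hG hPB hPL hP x₂ x₁
    rw [← cmpLift_fst x₁ x₂ t] at h2
    exact (repWith_precomp (cmpLift_isEquivOver x₁ x₂ t) _).1 h2
  let δ : FibCat.overCat U ⥤ᵇ FibCat.fp (BasedFunctor.comp x₁ t) (BasedFunctor.comp x₂ t) :=
    FibCat.fpLift (BasedFunctor.id _) (BasedFunctor.id _)
      (show BasedFunctor.comp (BasedFunctor.id _) (BasedFunctor.comp x₁ t) ≅
          BasedFunctor.comp (BasedFunctor.id _) (BasedFunctor.comp x₂ t) from whiskerL y (FibCat.fpIso t t))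
  let i : BasedFunctor.comp δ (cmpMap x₁ x₂ t) ≅ y :=
    mkIso2 (fun x => fpIsoMk (Iso.refl _) (Iso.refl _) (by
        show t.map (𝟙 _) ≫ (y.obj x).obj.iso.hom = (y.obj x).obj.iso.hom ≫ t.map (𝟙 _)
        rw [CategoryTheory.Functor.map_id, CategoryTheory.Functor.map_id]
        exact (Category.id_comp _).trans (Category.comp_id _).symm))
      (fun x x' m => fp_ext (show (y.map m).hom.fst ≫ 𝟙 _ = 𝟙 _ ≫ (y.map m).hom.fst by simp)
        (show (y.map m).hom.snd ≫ 𝟙 _ = 𝟙 _ ≫ (y.map m).hom.snd by simp))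
      (fun x => overId_fp _ (overId_id _))
  exact (wit_congr i (Iso.refl _)).1
    ((Wit.transfer (fpPaste δ (cmpMap x₁ x₂ t) (FibCat.diag t)) (fpPaste_isEquivOver _ _ _) (Iso.refl _)).1 (h1 U δ))

end Rep

theorem toUnit_left (T : Over S) : (toUnit T).left = T.hom :=
  (Category.comp_id _).symm.trans (Over.w (toUnit T))

theorem isSurjectiveMor_map {T T' : Over S} (φ : T ⟶ T') [Surjective φ.left] :
    IsSurjectiveMor ((yon S).map φ) := fun p => by
  obtain ⟨t, rfl⟩ := (Points.schemeEquiv T').surjective p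
  obtain ⟨s, rfl⟩ := φ.left.surjective t
  exact ⟨Points.ofScheme T s, Points.map_yon_map_apply φ s⟩

theorem isQuasiCompactMor_map {T T' : Over S} (φ : T ⟶ T') [QuasiCompact φ.left] :
    IsQuasiCompactMor ((yon S).map φ) :=
  Groth.L23.isQuasiCompactMor_of_repWith (Groth.L23.repWith_map (show QuasiCompact φ.left from inferInstance))

theorem isSeparatedMor_map {T T' : Over S} (φ : T ⟶ T') [IsSeparated φ.left] :
    IsSeparatedMor ((yon S).map φ) := by
  have sq := (IsPullback.of_hasPullback φ φ).map (yon S)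
  have e : pullback.diagonal ((yon S).map φ) = (yon S).map (pullback.diagonal φ) ≫ sq.isoPullback.hom := by
    apply pullback.hom_ext
    · rw [pullback.diagonal_fst, Category.assoc, sq.isoPullback_hom_fst, ← Functor.map_comp, pullback.diagonal_fst,
        CategoryTheory.Functor.map_id]
    · rw [pullback.diagonal_snd, Category.assoc, sq.isoPullback_hom_snd, ← Functor.map_comp, pullback.diagonal_snd,
        CategoryTheory.Functor.map_id]
  have sq' := (IsPullback.of_hasPullback φ φ).map (Over.forget S)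
  have e' : (pullback.diagonal φ).left ≫ sq'.isoPullback.hom = pullback.diagonal φ.left := by
    apply pullback.hom_ext
    · exact (Category.assoc _ _ _).trans ((congrArg ((pullback.diagonal φ).left ≫ ·) sq'.isoPullback_hom_fst).trans
        ((congrArg CommaMorphism.left (pullback.diagonal_fst φ)).trans (pullback.diagonal_fst φ.left).symm))
    · exact (Category.assoc _ _ _).trans ((congrArg ((pullback.diagonal φ).left ≫ ·) sq'.isoPullback_hom_snd).trans
        ((congrArg CommaMorphism.left (pullback.diagonal_snd φ)).trans (pullback.diagonal_snd φ.left).symm))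
  have h : IsClosedImmersion (pullback.diagonal φ).left := by
    rw [← MorphismProperty.cancel_right_of_respectsIso @IsClosedImmersion _ sq'.isoPullback.hom, e']
    infer_instance
  show RepWith @IsClosedImmersion (pullback.diagonal ((yon S).map φ))
  rw [e]
  exact Groth.L23.repWith_comp (Groth.L23.repWith_map h) (Groth.L23.repWith_of_isIso _)

include β hst hG in
/-- The diagonal is quasi-compact and separated. -/
theorem diag_qc_sep [QuasiCompact A.hom] [IsSeparated A.hom] :
    AlgSt.RepByAlgSpWith (IsQuasiCompactMor ⊓ IsSeparatedMor) (FibCat.diag (FibCat.toSelf 𝒳)) := by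
  have : QuasiCompact (toUnit A).left := by rw [toUnit_left]; infer_instance
  have : IsSeparated (toUnit A).left := by rw [toUnit_left]; infer_instance
  exact Groth.L24.St.repWith_inf pBase_sepMor
    (repWith_diag β hst hG pBase_qcMor Groth.L24.Alg.isLocalOnBase_fppf_qcMor (isQuasiCompactMor_map _))
    (repWith_diag β hst hG pBase_sepMor Groth.L24.Alg.isLocalOnBase_fppf_separated (isSeparatedMor_map _))

include β hst hG in
/-- A chart from a flat surjective scheme of finite presentation is a flat atlas. -/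
theorem atl_chart [Flat A.hom] [LocallyOfFinitePresentation A.hom] [Surjective A.hom] {T : Over S}
    [Flat T.hom] [LocallyOfFinitePresentation T.hom] [Surjective T.hom] (f : FibCat.overCat T ⥤ᵇ 𝒳) :
    Cand.Atl f := by
  have : Flat (toUnit A).left := by rw [toUnit_left]; infer_instance
  have : LocallyOfFinitePresentation (toUnit A).left := by rw [toUnit_left]; infer_instance
  have : Surjective (toUnit A).left := by rw [toUnit_left]; infer_instance
  have hfst : ∀ R : Over S, Flat (fst R T).left ∧ LocallyOfFinitePresentation (fst R T).left ∧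
      Surjective (fst R T).left := fun R => by
    have pr := ((AlgSt.isPullback_fst_snd R T).map (Over.forget S)).flip
    exact ⟨MorphismProperty.of_isPullback (P := @Flat) pr
        (show Flat (toUnit T).left by rw [toUnit_left]; infer_instance),
      MorphismProperty.of_isPullback (P := @LocallyOfFinitePresentation) pr
        (show LocallyOfFinitePresentation (toUnit T).left by rw [toUnit_left]; infer_instance),
      MorphismProperty.of_isPullback (P := @Surjective) pr
        (show Surjective (toUnit T).left by rw [toUnit_left]; infer_instance)⟩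
  have h1 := repWith_chart β hst hG (pBase_locP Groth.L23.etLocal_flat)
    (Groth.L24.Tors.isLocalOnBase_fppf_locP Groth.L23.etLocal_flat)
    ((Groth.L24.LocQ.locP_map_iff Groth.L23.etLocal_flat _).2 inferInstance) f (pComp_locP Groth.L23.etLocal_flat)
    fun R => (Groth.L24.LocQ.locP_map_iff Groth.L23.etLocal_flat _).2 (hfst R).1
  have h2 := repWith_chart β hst hG (pBase_locP Groth.L23.etLocal_lfp)
    (Groth.L24.Tors.isLocalOnBase_fppf_locP Groth.L23.etLocal_lfp)
    ((Groth.L24.LocQ.locP_map_iff Groth.L23.etLocal_lfp _).2 inferInstance) f (pComp_locP Groth.L23.etLocal_lfp)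
    fun R => (Groth.L24.LocQ.locP_map_iff Groth.L23.etLocal_lfp _).2 (hfst R).2.1
  exact ⟨hst,
    repWith_mono (fun _ _ _ _ h => ⟨Groth.L23.locP_mono (fun _ h => h.1) h, Groth.L23.locP_mono (fun _ h => h.2) h⟩)
      (repWith_locP_and h1 h2),
    repWith_chart β hst hG Groth.L24.Tors.pBase_surj Groth.L24.Tors.isLocalOnBase_fppf_surj (isSurjectiveMor_map _) f
      Model.pComp_surj fun R => haveI := (hfst R).2.2; isSurjectiveMor_map _⟩

theorem sigma_props {I : Type u} {V : I → Over S} (D : Groth.L24.Boot.SigmaData V)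
    (h : ∀ i, Flat (V i).hom ∧ LocallyOfFinitePresentation (V i).hom) :
    Flat D.V.hom ∧ LocallyOfFinitePresentation D.V.hom := by
  let 𝒰 : Scheme.OpenCover.{u} D.V.left := Scheme.Cover.mkOfCovers I (fun i => (V i).left)
    (fun i => (D.inj i).left) D.cover (fun i => D.isOpen i)
  exact ⟨IsZariskiLocalAtSource.of_openCover (P := @Flat) 𝒰 fun i => (show Flat ((D.inj i).left ≫ D.V.hom) by
      rw [Over.w]; exact (h i).1),
    IsZariskiLocalAtSource.of_openCover (P := @LocallyOfFinitePresentation) 𝒰 fun i =>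
      (show LocallyOfFinitePresentation ((D.inj i).left ≫ D.V.hom) by rw [Over.w]; exact (h i).2)⟩

/-- A gerbe has objects over a flat surjective scheme of finite presentation over the base. -/
theorem exists_chart (h𝒳 : Gerb.IsGerbe (QuotSh.J Scheme.fppfPrecoverage S) 𝒳) :
    ∃ (T : Over S) (_ : FibCat.overCat T ⥤ᵇ 𝒳),
      Flat T.hom ∧ LocallyOfFinitePresentation T.hom ∧ Surjective T.hom := by
  obtain ⟨R, hR, hR'⟩ := h𝒳.2.1 (Over.mk (𝟙 S))
  obtain ⟨V, g, hg⟩ := exists_family_of_mem_J (U := Over.mk (𝟙 S)) hR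
  have key : ∀ t, ∃ x : 𝒳.obj, 𝒳.p.obj x = V t := fun t => by
    obtain ⟨x, k, hk⟩ := hR' (g t) (hg t).1
    exact ⟨x, IsHomLift.domain_eq (FibCat.selfOver (Over S)).p (g t) k⟩
  choose x hx using key
  have := Groth.L09.Fib.isFibered_of_isFibGrpd _ h𝒳.1.1
  obtain ⟨D⟩ := Groth.L24.Boot.exists_sigma V
  obtain ⟨q, -⟩ := Groth.L24.Multi.exists_glue (fun t => Groth.L09.Fib.ofObj (hx t)) D h𝒳.1
  have hV : ∀ t, (g t).left = (V t).hom := fun t => (Category.comp_id _).symm.trans (Over.w (g t))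
  obtain ⟨hf, hp⟩ : Flat D.V.hom ∧ LocallyOfFinitePresentation D.V.hom :=
    sigma_props D fun t => hV t ▸ ⟨(hg t).2.1, (hg t).2.2.1⟩
  refine ⟨D.V, q, hf, hp, ⟨fun s => ?_⟩⟩
  obtain ⟨v, hv⟩ := (hg s).2.2.2
  refine ⟨(D.inj s).left v, ?_⟩
  rw [← Scheme.Hom.comp_apply, Over.w, ← hV s]
  exact hv

end Groth.L09.Artin.Banded
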