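import Groth.Agent.L09.Artin.Cand.Pt
import Groth.Agent.L24.St.Stack
import Groth.Agent.L24.St.SieveDescent
import Groth.Agent.L24.St.StackSp
import Groth.Agent.L24.Tors.LocalSpace
import Groth.Agent.L23.UHPush
import Groth.Agent.L24.LocQ.Descent
import Groth.Prelude.Def_StGerb
import Groth.Prelude.Def_AlgSt5

/-!
# Spaces of lifts in a banded gerbe

For a gerbe banded by a group scheme `A`, a chart `f : (Sch/U) ⟶ 𝒳` and an object `ξ` over `R`, the sheaf of lifts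
of `ξ` is fppf locally on `R ×_S U` isomorphic to `A`.
-/

set_option autoImplicit false
set_option backward.isDefEq.respectTransparency false
set_option backward.isDefEq.respectTransparency.types false

universe u

open CategoryTheory CategoryTheory.Limits MonoidalCategory CartesianMonoidalCategory AlgebraicGeometry Opposite AlgSp

noncomputable section

namespace Groth.L09.Artin.Banded


open Groth.L09.Artin.Cand (Pt om oeq K)

variable {S : Scheme.{u}} {𝒳 : AlgSt.Cat S} {A : Over S} [GrpObj A] (β : Gerb.Banding 𝒳 (yonedaGrpObj A))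
  {U : Over S} {f : FibCat.overCat U ⥤ᵇ 𝒳}

variable (f) in
/-- The automorphism of the value at `v` given by a point of the band. -/
def band {T : Over S} (v : T ⟶ U) (a : T ⟶ A) : f.obj (Over.mk v) ⟶ f.obj (Over.mk v) :=
  (β.iso (f.obj (Over.mk v)) (eqToHom (f.w_obj _) ≫ a)).hom.1

instance band_lift {T : Over S} (v : T ⟶ U) (a : T ⟶ A) : 𝒳.p.IsHomLift (𝟙 T) (band β f v a) := by
  have hp : 𝒳.p.obj (f.obj (Over.mk v)) = T := f.w_obj _
  have h : 𝒳.p.IsHomLift (𝟙 (𝒳.p.obj (f.obj (Over.mk v)))) (band β f v a) :=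
    (β.iso (f.obj (Over.mk v)) (eqToHom (f.w_obj _) ≫ a)).hom.2
  have e : 𝒳.p.map (band β f v a) = 𝟙 _ := by
    have := IsHomLift.fac' 𝒳.p (𝟙 (𝒳.p.obj (f.obj (Over.mk v)))) (band β f v a)
    simpa using this
  exact IsHomLift.of_fac' _ _ _ hp hp (by simp [e])

theorem band_injective {T : Over S} (v : T ⟶ U) {a a' : T ⟶ A} (h : band β f v a = band β f v a') : a = a' :=
  (cancel_epi (eqToHom (f.w_obj (Over.mk v)))).1
    ((β.iso (f.obj (Over.mk v))).injective (Iso.ext (Subtype.ext h)))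

theorem band_surjective {T : Over S} (v : T ⟶ U) (h𝒳 : FibCat.IsFibGrpd 𝒳.p)
    (χ : f.obj (Over.mk v) ⟶ f.obj (Over.mk v)) [𝒳.p.IsHomLift (𝟙 T) χ] :
    ∃ a : T ⟶ A, band β f v a = χ := by
  have hp : 𝒳.p.obj (f.obj (Over.mk v)) = T := f.w_obj _
  have := Fib.isIso_of_isFibGrpd 𝒳.p h𝒳 (𝟙 T) χ
  have e : 𝒳.p.map χ = 𝟙 _ := by
    have := IsHomLift.fac' 𝒳.p (𝟙 T) χ
    simpa using this
  have h1 : 𝒳.p.IsHomLift (𝟙 (𝒳.p.obj (f.obj (Over.mk v)))) χ := IsHomLift.of_fac' _ _ _ rfl rfl (by simp [e])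
  have h2 : 𝒳.p.IsHomLift (𝟙 (𝒳.p.obj (f.obj (Over.mk v)))) (inv χ) :=
    IsHomLift.of_fac' _ _ _ rfl rfl (by simp [e])
  let α : Gerb.AutO (f.obj (Over.mk v)) :=
    ⟨⟨χ, h1⟩, ⟨inv χ, h2⟩, Functor.Fiber.hom_ext (IsIso.hom_inv_id χ), Functor.Fiber.hom_ext (IsIso.inv_hom_id χ)⟩
  refine ⟨eqToHom hp.symm ≫ (β.iso (f.obj (Over.mk v))).symm α, ?_⟩
  unfold band
  rw [eqToHom_trans_assoc, eqToHom_refl, Category.id_comp]
  exact congrArg (fun g => g.hom.1) ((β.iso (f.obj (Over.mk v))).apply_symm_apply α)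

theorem band_natural {T T' : Over S} (k : T' ⟶ T) (v : T ⟶ U) (a : T ⟶ A) :
    band β f (k ≫ v) (k ≫ a) ≫ f.map (om k v) = f.map (om k v) ≫ band β f v a := by
  have h := β.natural (f.map (om k v)) (eqToHom (f.w_obj (Over.mk v)) ≫ a)
  have e : (yonedaGrpObj A).map (𝒳.p.map (f.map (om k v))).op (eqToHom (f.w_obj (Over.mk v)) ≫ a) =
      eqToHom (f.w_obj (Over.mk (k ≫ v))) ≫ k ≫ a := by
    show 𝒳.p.map (f.map (om k v)) ≫ eqToHom (f.w_obj (Over.mk v)) ≫ a = _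
    rw [IsHomLift.fac' 𝒳.p k (f.map (om k v))]
    simp
  rw [e] at h
  exact h

/-- A point of the band moves a lift. -/
def act {ξ : 𝒳.obj} {R T : Over S} (p : Pt f ξ R T) (a : T ⟶ A) : Pt f ξ R T :=
  ⟨p.x, p.u, band β f p.u a ≫ p.m, IsHomLift.comp_lift_id_left' 𝒳.p T _ p.x p.m⟩

theorem act_restr {ξ : 𝒳.obj} {R T T' : Over S} (p : Pt f ξ R T) (a : T ⟶ A) (k : T' ⟶ T) :
    (act β p a).restr k = act β (p.restr k) (k ≫ a) :=
  Pt.ext rfl rfl (by
    rw [Cand.f_map_oeq_refl, Category.id_comp]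
    show f.map (om k p.u) ≫ band β f p.u a ≫ p.m = band β f (k ≫ p.u) (k ≫ a) ≫ f.map (om k p.u) ≫ p.m
    rw [reassoc_of% band_natural β k p.u a])

theorem act_injective (h𝒳 : FibCat.IsFibGrpd 𝒳.p) {ξ : 𝒳.obj} {R T : Over S} (p : Pt f ξ R T) {a a' : T ⟶ A}
    (h : act β p a = act β p a') : a = a' := by
  obtain ⟨hu, hm⟩ := Pt.ext_m h
  have hm' : band β f p.u a ≫ p.m = band β f p.u a' ≫ p.m := by
    have := hm
    change band β f p.u a ≫ p.m = f.map (oeq (rfl : p.u = p.u)) ≫ band β f p.u a' ≫ p.m at this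
    rwa [Cand.f_map_oeq_refl, Category.id_comp] at this
  have := Fib.stronglyCartesian_of_isFibGrpd 𝒳.p h𝒳 p.x p.m
  exact band_injective β p.u (Functor.IsCartesian.ext 𝒳.p p.x p.m _ _ hm')

theorem exists_act (h𝒳 : FibCat.IsFibGrpd 𝒳.p) {ξ : 𝒳.obj} {R T : Over S} (p q : Pt f ξ R T)
    (hx : q.x = p.x) (hu : q.u = p.u) : ∃ a : T ⟶ A, act β p a = q := by
  obtain ⟨qx, qu, qm, hq⟩ := q
  change qx = p.x at hx
  change qu = p.u at hu
  subst hx hu
  obtain ⟨χ, hχ, hχ'⟩ := Gerb.connect h𝒳 p.x qm p.m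
  obtain ⟨a, ha⟩ := band_surjective β p.u h𝒳 χ.hom
  refine ⟨a, Pt.ext rfl rfl ?_⟩
  rw [Cand.f_map_oeq_refl, Category.id_comp]
  show band β f p.u a ≫ p.m = qm
  rw [ha, hχ']

section Space

variable (f) in
theorem isSheaf_K (hst : Stk.IsStack (J S) 𝒳) {ξ : 𝒳.obj} {R : Over S} (hR : 𝒳.p.obj ξ = R) :
    Presheaf.IsSheaf (J S) (K f ξ R) := by
  obtain ⟨y, e, he⟩ := Groth.L24.St.exists_overCat_functor hst.1 ξ hR
  have he' : 𝒳.p.IsHomLift (𝟙 R) e.hom := he.lift (y.w_obj _)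
  have h := Groth.L24.St.isStack_fp (F := y) (G := f) (Groth.L24.St.isStack_overCat R)
    (Groth.L24.St.isStack_overCat U) (Groth.L24.St.isPrestack_of_isStack hst)
  exact (isSheaf_iff_isSheaf_of_type _ _).2 ((Groth.L24.St.isStack_ofPsh_iff _).1
    ((L09.Fib.isStack_iff _ (Cand.ptFun_isEquivOver hst.1 y e.hom (f := f))).2 h))

variable (hst : Stk.IsStack (J S) 𝒳) {ξ : 𝒳.obj} {R : Over S} (hR : 𝒳.p.obj ξ = R)

variable (f) in
/-- The sheaf of lifts. -/
def KS : Sp S := ⟨K f ξ R, isSheaf_K f hst hR⟩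

/-- Points of the sheaf of lifts. -/
def pts {T : Over S} : ((yon S).obj T ⟶ KS f hst hR) ≃ Pt f ξ R T :=
  ((J S).uliftYonedaEquiv.{u + 1}).trans Equiv.ulift

theorem pts_comp {T T' : Over S} (k : T' ⟶ T) (l : (yon S).obj T ⟶ KS f hst hR) :
    pts hst hR ((yon S).map k ≫ l) = (pts hst hR l).restr k :=
  (congrArg ULift.down ((J S).uliftYonedaEquiv_naturality l k).symm).trans rfl

/-- The map to the product of the two bases. -/
def qK : KS f hst hR ⟶ (yon S).obj (R ⊗ U) := ObjectProperty.homMk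
  { app := fun _ => ↾fun p => ⟨lift p.down.x p.down.u⟩
    naturality := fun _ _ k => by
      ext p : 3
      exact congrArg ULift.up (comp_lift _ _ _).symm }

theorem comp_qK {T : Over S} (l : (yon S).obj T ⟶ KS f hst hR) :
    l ≫ qK hst hR = (yon S).map (lift (pts hst hR l).x (pts hst hR l).u) := by
  refine (J S).uliftYonedaEquiv.injective ?_
  rw [GrothendieckTopology.uliftYonedaEquiv_comp, GrothendieckTopology.uliftYonedaEquiv_uliftYoneda_map]
  rfl

include β in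
/-- Over a scheme with one lift the lifts are the points of the band. -/
theorem exists_isPullback {W : Over S} (g : W ⟶ R ⊗ U) (p₀ : Pt f ξ R W) (hx : p₀.x = g ≫ fst R U)
    (hu : p₀.u = g ≫ snd R U) :
    ∃ m : (yon S).obj (A ⊗ W) ⟶ KS f hst hR,
      IsPullback m ((yon S).map (snd A W)) (qK hst hR) ((yon S).map g) := by
  let m := (pts hst hR).symm (act β (p₀.restr (snd A W)) (fst A W))
  have hm : ∀ {Z : Over S} (r : Z ⟶ A ⊗ W),
      pts hst hR ((yon S).map r ≫ m) = act β (p₀.restr (r ≫ snd A W)) (r ≫ fst A W) := fun r => by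
    rw [pts_comp, Equiv.apply_symm_apply, act_restr, ← Pt.restr_comp]
  refine ⟨m, Groth.L23.UHPush.isPullback_of_yon ?_ (fun Z k k' h₁ h₂ => ?_) fun Z l y hly => ?_⟩
  · rw [comp_qK, ← Functor.map_comp]
    congr 1
    rw [Equiv.apply_symm_apply]
    exact hom_ext _ _ (by rw [lift_fst]; show snd A W ≫ p₀.x = _; rw [hx, Category.assoc])
      (by rw [lift_snd]; show snd A W ≫ p₀.u = _; rw [hu, Category.assoc])
  · obtain ⟨r, rfl⟩ := (yon S).map_surjective k
    obtain ⟨r', rfl⟩ := (yon S).map_surjective k'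
    have h2 : r ≫ snd A W = r' ≫ snd A W := (yon S).map_injective (by simpa using h₂)
    have h1 := congrArg (pts hst hR) h₁
    rw [hm, hm, ← h2] at h1
    exact congrArg (yon S).map (hom_ext _ _ (act_injective β hst.1 _ h1) h2)
  · obtain ⟨y, rfl⟩ := (yon S).map_surjective y
    rw [comp_qK, ← Functor.map_comp] at hly
    have e := (yon S).map_injective hly
    have ex : (pts hst hR l).x = (p₀.restr y).x := by
      have := congrArg (· ≫ fst R U) e
      simpa [hx] using this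
    have eu : (pts hst hR l).u = (p₀.restr y).u := by
      have := congrArg (· ≫ snd R U) e
      simpa [hu] using this
    obtain ⟨a, ha⟩ := exists_act β hst.1 (p₀.restr y) _ ex eu
    refine ⟨(yon S).map (lift a y), (pts hst hR).injective ?_, ?_⟩
    · rw [hm]
      simpa using ha
    · rw [← Functor.map_comp, lift_snd]

include hst in
/-- In a gerbe lifts exist fppf locally over the product of the bases. -/
theorem exists_local_point (hG : Gerb.LocSurjHom (QuotSh.J Scheme.fppfPrecoverage S) (FibCat.toSelf 𝒳))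
    (hR : 𝒳.p.obj ξ = R) :
    ∃ (W : ↥(R ⊗ U).left → Over S) (g : ∀ t, W t ⟶ R ⊗ U) (p₀ : ∀ t, Pt f ξ R (W t)),
      ∀ t, (p₀ t).x = g t ≫ fst R U ∧ (p₀ t).u = g t ≫ snd R U ∧ Flat (g t).left ∧
        LocallyOfFinitePresentation (g t).left ∧ t ∈ Set.range (g t).left := by
  obtain ⟨ξ', φ₀, hφ₀⟩ := Gerb.exists_pull hst.1 ξ hR (fst R U)
  have hξ' : 𝒳.p.obj ξ' = R ⊗ U := IsHomLift.domain_eq 𝒳.p (fst R U) φ₀
  have hη : 𝒳.p.obj (f.obj (Over.mk (snd R U))) = R ⊗ U := f.w_obj _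
  obtain ⟨Q, hQ, hQ'⟩ := Gerb.homAt hG (x := f.obj (Over.mk (snd R U))) (x' := ξ') hη
    (eqToHom (hη.trans hξ'.symm))
    (IsHomLift.of_fac' _ _ _ hη hξ' (by simp [FibCat.toSelf, FibCat.selfOver, eqToHom_map]))
  obtain ⟨W, g, hg⟩ := Groth.L24.St.exists_family_of_mem_J hQ
  have key : ∀ t, ∃ m : f.obj (Over.mk (g t ≫ snd R U)) ⟶ ξ, 𝒳.p.IsHomLift (g t ≫ fst R U) m := fun t => by
    obtain ⟨x₀, φ, ψ, hφ, hψ, -⟩ := hQ' (g t) (hg t).1
    obtain ⟨χ, hχ, -⟩ := Gerb.connect hst.1 (g t) (f.map (om (g t) (snd R U))) φ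
    have : 𝒳.p.IsHomLift (g t) (χ.hom ≫ ψ) := IsHomLift.comp_lift_id_left' 𝒳.p (W t) χ.hom (g t) ψ
    exact ⟨(χ.hom ≫ ψ) ≫ φ₀, inferInstance⟩
  choose m hm using key
  exact ⟨W, g, fun t => ⟨g t ≫ fst R U, g t ≫ snd R U, m t, hm t⟩,
    fun t => ⟨rfl, rfl, (hg t).2.1, (hg t).2.2.1, (hg t).2.2.2⟩⟩

include β in
/-- The sheaf of lifts is an algebraic space with every fppf local property of the band over the product. -/
theorem isAlgSpace_and_prop (hG : Gerb.LocSurjHom (QuotSh.J Scheme.fppfPrecoverage S) (FibCat.toSelf 𝒳))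
    {P : MorphismProperty (Sp S)} (hPB : Groth.L24.St.PBase P) (hPL : IsLocalOnBase AlgSp.IsFppfCover P)
    (hP : P ((yon S).map (toUnit A))) : IsAlgSpace (KS f hst hR) ∧ P (qK (f := f) hst hR) := by
  obtain ⟨W, g, p₀, h⟩ := exists_local_point (f := f) hst hG hR
  choose m hm using fun t => exists_isPullback β hst hR (g t) (p₀ t) (h t).1 (h t).2.1
  refine Groth.L24.Tors.isAlgSpace_and_prop_of_local (g := g) ⟨fun t => ⟨?_, ?_⟩, fun x => ?_⟩ (qK hst hR)
    (fun t => IsAlgSpace.yon_obj (A ⊗ W t)) m (fun t => (yon S).map (snd A (W t))) hm P hPL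
    fun t => hPB (IsAlgSpace.yon_obj A) (IsAlgSpace.yon_obj (𝟙_ (Over S))) (IsAlgSpace.yon_obj (A ⊗ W t))
      (IsAlgSpace.yon_obj (W t)) _ ((yon S).map (toUnit (W t))) _ ((yon S).map (fst A (W t)))
      ((AlgSt.isPullback_fst_snd A (W t)).map (yon S)) hP
  · exact (Groth.L24.LocQ.locP_map_iff Groth.L23.etLocal_flat (g t)).2 (h t).2.2.1
  · exact (Groth.L24.LocQ.locP_map_iff Groth.L23.etLocal_lfp (g t)).2 (h t).2.2.2.1
  · obtain ⟨t, rfl⟩ := (Points.schemeEquiv (R ⊗ U)).surjective x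
    obtain ⟨y, hy⟩ := (h t).2.2.2.2
    refine ⟨t, Points.ofScheme _ y, ?_⟩
    show Points.map ((yon S).map (g t)) (Points.ofScheme (W t) y) = Points.ofScheme (R ⊗ U) t
    exact (Points.map_yon_map_apply (g t) y).trans (congrArg (Points.ofScheme (R ⊗ U)) hy)

end Space

end Groth.L09.Artin.Banded
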